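/-
helper39: combinatorics for the uniqueness of the splitting type:
an antitone sequence `d : Fin r → ℤ` is determined by the function `m ↦ ∑ i, (d i + m + 1).toNat`,
and every sequence can be rearranged to an antitone one.

ns `Groth.Agent.Lib.Helper39.P1Split`.
-/
import Mathlib

set_option autoImplicit false

namespace Groth.Agent.Lib.Helper39.P1Split

/-- the "Hilbert function" of a splitting type -/
def hilb {r : ℕ} (d : Fin r → ℤ) (m : ℤ) : ℕ := ∑ i, (d i + m + 1).toNat

/-- number of entries `≥ t` -/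
def cnt {r : ℕ} (d : Fin r → ℤ) (t : ℤ) : ℕ := (Finset.univ.filter (fun i => t ≤ d i)).card

lemma hilb_sub {r : ℕ} (d : Fin r → ℤ) (m : ℤ) :
    (hilb d m : ℤ) - (hilb d (m - 1) : ℤ) = (cnt d (-m) : ℤ) := by
  unfold hilb cnt
  rw [Nat.cast_sum, Nat.cast_sum, ← Finset.sum_sub_distrib, Finset.card_filter, Nat.cast_sum]
  refine Finset.sum_congr rfl (fun i _ => ?_)
  by_cases h : -m ≤ d i
  · rw [if_pos h]
    have h1 : 0 ≤ d i + m + 1 := by omega
    have h2 : 0 ≤ d i + (m - 1) + 1 := by omega
    rw [Int.toNat_of_nonneg h1, Int.toNat_of_nonneg h2]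
    push_cast
    ring
  · rw [if_neg h]
    have h1 : (d i + m + 1).toNat = 0 := by omega
    have h2 : (d i + (m - 1) + 1).toNat = 0 := by omega
    rw [h1, h2]
    simp

lemma cnt_eq_of_hilb_eq {r : ℕ} (d d' : Fin r → ℤ) (h : ∀ m, hilb d m = hilb d' m) (t : ℤ) :
    cnt d t = cnt d' t := by
  have h1 := hilb_sub d (-t)
  have h2 := hilb_sub d' (-t)
  rw [h (-t), h (-t - 1), h2, neg_neg] at h1
  exact_mod_cast h1.symm

lemma le_of_cnt_eq {r : ℕ} (d d' : Fin r → ℤ) (hd : Antitone d) (hd' : Antitone d')
    (h : ∀ t, cnt d t = cnt d' t) (i : Fin r) : d' i ≤ d i := by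
  by_contra hlt
  rw [not_le] at hlt
  have h1 : i.1 + 1 ≤ cnt d' (d' i) := by
    unfold cnt
    have hsub : Finset.univ.filter (fun j : Fin r => j ≤ i) ⊆
        Finset.univ.filter (fun j => d' i ≤ d' j) := by
      intro j hj
      rw [Finset.mem_filter] at hj ⊢
      exact ⟨hj.1, hd' hj.2⟩
    have hcard : (Finset.univ.filter (fun j : Fin r => j ≤ i)).card = i.1 + 1 := by
      have : Finset.univ.filter (fun j : Fin r => j ≤ i) = Finset.Iic i := by
        ext j
        simp
      rw [this, Fin.card_Iic]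
    rw [← hcard]
    exact Finset.card_le_card hsub
  have h2 : cnt d (d' i) ≤ i.1 := by
    unfold cnt
    have hsub : Finset.univ.filter (fun j => d' i ≤ d j) ⊆ Finset.Iio i := by
      intro j hj
      rw [Finset.mem_filter] at hj
      rw [Finset.mem_Iio]
      by_contra hij
      rw [not_lt] at hij
      have := hd hij
      omega
    have := Finset.card_le_card hsub
    rwa [Fin.card_Iio] at this
  rw [h] at h2
  omega

/-- an antitone sequence is determined by its Hilbert function -/
theorem eq_of_hilb_eq {r : ℕ} (d d' : Fin r → ℤ) (hd : Antitone d) (hd' : Antitone d')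
    (h : ∀ m, hilb d m = hilb d' m) : d = d' := by
  have hc := cnt_eq_of_hilb_eq d d' h
  funext i
  exact le_antisymm (le_of_cnt_eq d' d hd' hd (fun t => (hc t).symm) i)
    (le_of_cnt_eq d d' hd hd' hc i)

/-- every finite sequence of integers can be rearranged into an antitone one -/
theorem exists_perm_antitone {r : ℕ} (a : Fin r → ℤ) :
    ∃ σ : Equiv.Perm (Fin r), Antitone (a ∘ σ) := by
  refine ⟨Tuple.sort (fun i => -a i), ?_⟩
  have hm := Tuple.monotone_sort (fun i => -a i)
  intro i j hij
  have := hm hij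
  simp only [Function.comp_apply] at this ⊢
  omega

end Groth.Agent.Lib.Helper39.P1Split
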