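/-
helper39: finite direct sums of modules: cohomology (dimension is additive), ranks.

ns `Groth.Agent.Lib.Helper39.P1Split`.
-/
import Groth.Agent.Lib.Cohomology.helper5_HHLES
import Groth.Agent.Lib.QCoh.Helper74_LocFreeSplit

set_option autoImplicit false
universe u

open CategoryTheory CategoryTheory.Limits AlgebraicGeometry Opposite TopologicalSpace

namespace Groth.Agent.Lib.Helper39.P1Split

open Groth.Agent.Lib.QCoh Scheme.Modules FlatMod Groth.Agent.Lib.Cohomology.HHLES

section HH

variable {X : Scheme.{u}}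

lemma hmap_finset_sum {F G : X.Modules} {ι : Type*} (s : Finset ι) (f : ι → (F ⟶ G))
    (i : ℕ) (z : Coh.HH X F i) : hmap (∑ v ∈ s, f v) i z = ∑ v ∈ s, hmap (f v) i z := by
  classical
  induction s using Finset.induction_on with
  | empty => rw [Finset.sum_empty, Finset.sum_empty, hmap_zero]
  | insert a s ha ih => rw [Finset.sum_insert ha, Finset.sum_insert ha, hmap_add, ih]

variable (k : Type u) [Field k] [X.Over (Spec (CommRingCat.of k))]

/-- cohomology of a finite direct sum, given by bicone data -/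
noncomputable def HHbiconeEquiv {r : ℕ} (M : X.Modules) (F : Fin r → X.Modules)
    (ι : ∀ j, F j ⟶ M) (π : ∀ j, M ⟶ F j) (h1 : ∀ j, ι j ≫ π j = 𝟙 _)
    (h2 : ∀ j j', j ≠ j' → ι j ≫ π j' = 0) (hsum : ∑ j, π j ≫ ι j = 𝟙 M) (i : ℕ) :
    Coh.HH X M i ≃ₗ[k] (∀ j, Coh.HH X (F j) i) where
  toFun x := fun j => hmap (π j) i x
  map_add' x y := by
    funext j
    exact map_add _ _ _
  map_smul' a x := by
    funext j
    exact (Canon.HHlin k (π j) i).map_smul a x
  invFun y := ∑ j, hmap (ι j) i (y j)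
  left_inv x := by
    change ∑ j, hmap (ι j) i (hmap (π j) i x) = x
    simp_rw [← hmap_comp]
    rw [← hmap_finset_sum, hsum, hmap_id]
  right_inv y := by
    funext j'
    change hmap (π j') i (∑ j, hmap (ι j) i (y j)) = y j'
    rw [map_sum]
    simp_rw [← hmap_comp]
    rw [Finset.sum_eq_single j']
    · rw [h1, hmap_id]
    · intro j _ hj
      rw [h2 j j' hj, hmap_zero]
    · intro h
      exact absurd (Finset.mem_univ j') h

theorem finrank_HH_of_bicone {r : ℕ} (M : X.Modules) (F : Fin r → X.Modules)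
    (ι : ∀ j, F j ⟶ M) (π : ∀ j, M ⟶ F j) (h1 : ∀ j, ι j ≫ π j = 𝟙 _)
    (h2 : ∀ j j', j ≠ j' → ι j ≫ π j' = 0) (hsum : ∑ j, π j ≫ ι j = 𝟙 M) (i : ℕ)
    [∀ j, Module.Finite k (Coh.HH X (F j) i)] :
    Module.finrank k (Coh.HH X M i) = ∑ j, Module.finrank k (Coh.HH X (F j) i) := by
  rw [(HHbiconeEquiv k M F ι π h1 h2 hsum i).finrank_eq, Module.finrank_pi_fintype]

end HH

section sigma

variable {C : Type*} [Category C] [HasZeroMorphisms C] [HasBinaryBiproducts C]

/-- peeling off the first summand of a finite coproduct -/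
lemma nonempty_sigma_succ_iso [HasFiniteCoproducts C] {r : ℕ} (W : Fin (r + 1) → C) :
    Nonempty ((∐ W) ≅ W 0 ⊞ ∐ fun i : Fin r => W i.succ) := by
  let c₁ : Cofan (fun i : Fin r => W i.succ) :=
    Cofan.mk (∐ fun i : Fin r => W i.succ) (fun i => Sigma.ι (fun i : Fin r => W i.succ) i)
  have hc₁ : IsColimit c₁ := coproductIsCoproduct (fun i : Fin r => W i.succ)
  let c₂ : BinaryCofan (W 0) c₁.pt := BinaryCofan.mk biprod.inl biprod.inr
  have hc₂ : IsColimit c₂ := BinaryBiproduct.isColimit (W 0) (∐ fun i : Fin r => W i.succ)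
  have hE := extendCofanIsColimit W hc₁ hc₂
  exact ⟨(coproductIsCoproduct W).coconePointUniqueUpToIso hE⟩

end sigma

section rank

variable {X : Scheme.{u}}

/-- a finite direct sum of `r` invertible modules is finite locally free of rank `r` -/
theorem isFinLocFreeOfRank_sigma : ∀ {r : ℕ} (W : Fin r → X.Modules)
    (_ : ∀ j, IsFinLocFreeOfRank 1 (W j)), IsFinLocFreeOfRank r (∐ W) := by
  intro r
  induction r with
  | zero =>
    intro W _ x
    refine ⟨⊤, trivial, ⟨IsZero.iso ?_ ?_⟩⟩
    · have h0 : IsZero (∐ W) := by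
        rw [IsZero.iff_id_eq_zero]
        apply Sigma.hom_ext
        intro j
        exact j.elim0
      exact (restrictFunctor (⊤ : X.Opens).ι).map_isZero h0
    · rw [IsZero.iff_id_eq_zero]
      apply Sigma.hom_ext
      intro j
      exact j.elim0
  | succ r ih =>
    intro W hW
    obtain ⟨e⟩ := nonempty_sigma_succ_iso W
    have h := isFinLocFreeOfRank_biprod (hW 0) (ih (fun i : Fin r => W i.succ) (fun i => hW i.succ))
    rw [add_comm] at h
    exact isFinLocFreeOfRank_of_iso e.symm h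

/-- the rank of a finite locally free module on a nonempty scheme is well defined -/
theorem rank_unique [Nonempty X] {E : X.Modules} {a b : ℕ} (ha : IsFinLocFreeOfRank a E)
    (hb : IsFinLocFreeOfRank b E) : a = b := by
  obtain ⟨x⟩ := ‹Nonempty X›
  obtain ⟨U, hU, hxU, -⟩ := Opens.isBasis_iff_nbhd.1 X.isBasis_affineOpens
    (show x ∈ (⊤ : X.Opens) from trivial)
  have hU' : IsAffineOpen U := hU
  let p : PrimeSpectrum Γ(X, U) := hU'.primeIdealOf ⟨x, hxU⟩
  rw [← rankAtStalk_Γ_of_isFinLocFreeOfRank ha hU' p, rankAtStalk_Γ_of_isFinLocFreeOfRank hb hU' p]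

end rank

end Groth.Agent.Lib.Helper39.P1Split
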