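/-
helper39: torsion-freeness of finite locally free modules on an integral scheme, and
"a nonzero morphism from an invertible module to a finite locally free module is a monomorphism".

ns `Groth.Agent.Lib.Helper39.P1Split`.
-/
import Groth.Agent.Lib.QCoh.Helper74_LocFreeBasis

set_option autoImplicit false
universe u

open CategoryTheory CategoryTheory.Limits AlgebraicGeometry Opposite TopologicalSpace

namespace Groth.Agent.Lib.Helper39.P1Split

open Groth.Agent.Lib.QCoh Scheme.Modules FlatMod Groth.Agent.Lib.Helper22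

variable {X : Scheme.{u}} [IsIntegral X]

/-- sections of a finite locally free module over a nonempty affine open of an integral scheme are
torsion-free -/
lemma eq_zero_of_smul_eq_zero {E : X.Modules} (hE : IsFinLocFree E) {U : X.Opens}
    (hU : IsAffineOpen U) (hne : (U : Set X).Nonempty) {g : Γ(X, U)} (hg : g ≠ 0) {x : Γ(E, U)}
    (h : g • x = 0) : x = 0 := by
  have : Nonempty U := hne.to_subtype
  have : IsDomain Γ(X, U) := inferInstance
  obtain ⟨_, _⟩ := finite_projective_Γ_of_isAffineOpen hE hU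
  have hreg : IsSMulRegular Γ(E, U) g :=
    Module.Flat.isSMulRegular_of_nonZeroDivisors (mem_nonZeroDivisors_of_ne_zero hg)
  apply hreg
  simpa using h

/-- restriction to a nonempty basic open of an affine open is injective -/
lemma res_basicOpen_injective {E : X.Modules} (hE : IsFinLocFree E) {U : X.Opens}
    (hU : IsAffineOpen U) (hne : (U : Set X).Nonempty) {g : Γ(X, U)} (hg : g ≠ 0) :
    Function.Injective (E.presheaf.map (homOfLE (X.basicOpen_le g)).op) := by
  have : Nonempty U := hne.to_subtype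
  have : IsDomain Γ(X, U) := inferInstance
  have : E.IsQuasicoherent := isQuasicoherent_of_isFinLocFree hE
  rw [injective_iff_map_eq_zero]
  intro x hx
  obtain ⟨n, hn⟩ := exists_pow_smul_eq_zero_of_isAffineOpen E hU g x hx
  exact eq_zero_of_smul_eq_zero hE hU hne (pow_ne_zero n hg) hn

/-- restriction to a nonempty open is injective -/
theorem res_injective {E : X.Modules} (hE : IsFinLocFree E) {U V : X.Opens} (h : U ≤ V)
    (hne : (U : Set X).Nonempty) :
    Function.Injective (E.presheaf.map (homOfLE h).op) := by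
  rw [injective_iff_map_eq_zero]
  intro x hx
  have hloc : ∀ y : V, ∃ W : X.Opens, IsAffineOpen W ∧ y.1 ∈ W ∧ W ≤ V := by
    intro y
    obtain ⟨W, hW, hyW, hWV⟩ := Opens.isBasis_iff_nbhd.1 X.isBasis_affineOpens y.2
    exact ⟨W, hW, hyW, hWV⟩
  choose W hW hyW hWV using hloc
  refine sections_ext_of_cover E W V hWV ?_ x 0 (fun y => ?_)
  · intro z hz
    exact Opens.mem_iSup.2 ⟨⟨z, hz⟩, hyW ⟨z, hz⟩⟩
  · rw [map_zero]
    have hWne : ((W y : X.Opens) : Set X).Nonempty := ⟨y.1, hyW y⟩
    obtain ⟨z, hzW, hzU⟩ : (((W y : X.Opens) : Set X) ∩ (U : Set X)).Nonempty :=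
      nonempty_preirreducible_inter (W y).2 U.2 hWne hne
    obtain ⟨f, hfU, hzf⟩ := (hW y).exists_basicOpen_le ⟨z, hzU⟩ hzW
    have hf : f ≠ 0 := by
      rintro rfl
      rw [Scheme.basicOpen_zero] at hzf
      exact hzf
    apply res_basicOpen_injective hE (hW y) hWne hf
    rw [map_zero, ← ConcreteCategory.comp_apply, ← Functor.map_comp]
    have e1 : (homOfLE (hWV y)).op ≫ (homOfLE (X.basicOpen_le f)).op =
        (homOfLE h).op ≫ (homOfLE hfU).op := rfl
    rw [e1, Functor.map_comp, ConcreteCategory.comp_apply, hx, map_zero]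

omit [IsIntegral X] in
/-- sections over the empty open vanish -/
lemma eq_zero_of_bot (E : X.Modules) {V : X.Opens} (hV : ¬ (V : Set X).Nonempty) (x : Γ(E, V)) :
    x = 0 := by
  refine sections_ext_of_cover E (fun i : Empty => i.elim) V (fun i => i.elim) ?_ x 0
    (fun i => i.elim)
  intro z hz
  exact (hV ⟨z, hz⟩).elim

/-- if a morphism out of `L` kills a generator of `L` over a nonempty affine open, it is zero -/
theorem eq_zero_of_app_basis_eq_zero {L E : X.Modules} (hL : IsFinLocFree L) (hE : IsFinLocFree E)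
    (v : L ⟶ E) {U : X.Opens} (hU : IsAffineOpen U) (hne : (U : Set X).Nonempty)
    (hU0 : ∀ x : Γ(L, U), v.app U x = 0) : v = 0 := by
  have : L.IsQuasicoherent := isQuasicoherent_of_isFinLocFree hL
  -- vanishing on basic opens of `U`
  have hbasic : ∀ (O : X.Opens) (g : Γ(X, U)), O = X.basicOpen g → ∀ y : Γ(L, O), v.app O y = 0 := by
    rintro _ g rfl y
    obtain ⟨n, x, hx⟩ := exists_pow_smul_eq_map_of_isAffineOpen L hU g y
    have hunit : IsUnit (X.presheaf.map (homOfLE (X.basicOpen_le g)).op g) :=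
      RingedSpace.isUnit_res_basicOpen _ g
    obtain ⟨w, hw⟩ := hunit.pow n
    have h1 : v.app (X.basicOpen g) ((w : Γ(X, X.basicOpen g)) • y) = 0 := by
      rw [hw, ← hx, app_naturality_apply v (homOfLE (X.basicOpen_le g)) x, hU0 x, map_zero]
    rw [Hom.app_smul] at h1
    have h2 : (↑w⁻¹ : Γ(X, X.basicOpen g)) • ((w : Γ(X, X.basicOpen g)) • v.app (X.basicOpen g) y) = 0 := by
      rw [h1, smul_zero]
    rwa [smul_smul, Units.inv_mul, one_smul] at h2
  apply Scheme.Modules.hom_ext
  intro V
  ext s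
  change v.app V s = 0
  have hloc : ∀ y : V, ∃ W : X.Opens, IsAffineOpen W ∧ y.1 ∈ W ∧ W ≤ V := by
    intro y
    obtain ⟨W, hW, hyW, hWV⟩ := Opens.isBasis_iff_nbhd.1 X.isBasis_affineOpens y.2
    exact ⟨W, hW, hyW, hWV⟩
  choose W hW hyW hWV using hloc
  refine sections_ext_of_cover E W V hWV ?_ _ 0 (fun y => ?_)
  · intro z hz
    exact Opens.mem_iSup.2 ⟨⟨z, hz⟩, hyW ⟨z, hz⟩⟩
  · rw [map_zero]
    have hWne : ((W y : X.Opens) : Set X).Nonempty := ⟨y.1, hyW y⟩
    obtain ⟨z, hzW, hzU⟩ : (((W y : X.Opens) : Set X) ∩ (U : Set X)).Nonempty :=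
      nonempty_preirreducible_inter (W y).2 U.2 hWne hne
    obtain ⟨f, g, hfg, hzf⟩ := exists_basicOpen_le_affine_inter (hW y) hU z ⟨hzW, hzU⟩
    have hf : f ≠ 0 := by
      rintro rfl
      rw [Scheme.basicOpen_zero] at hzf
      exact hzf
    apply res_basicOpen_injective hE (hW y) hWne hf
    rw [map_zero, ← app_naturality_apply v (homOfLE (hWV y)) s,
      ← app_naturality_apply v (homOfLE (X.basicOpen_le f))]
    exact hbasic _ g hfg _

/-- **a nonzero morphism from an invertible module to a finite locally free module on an integral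
scheme is a monomorphism** -/
theorem mono_of_ne_zero {L E : X.Modules} (hL : IsFinLocFreeOfRank 1 L) (hE : IsFinLocFree E)
    (v : L ⟶ E) (hv : v ≠ 0) : Mono v := by
  have hL' := isFinLocFree_of_isFinLocFreeOfRank hL
  let B : {U : X.Opens // IsAffineOpen U ∧ (U : Set X).Nonempty ∧
      Nonempty (Module.Basis (Fin 1) Γ(X, U) Γ(L, U))} → X.Opens := fun U => U.1
  have hB : Opens.IsBasis (Set.range B) := by
    rw [Opens.isBasis_iff_nbhd]
    intro V x hx
    obtain ⟨U, hU, hxU, hUV, hb⟩ := exists_affine_basis_of_isFinLocFreeOfRank hL hx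
    exact ⟨U, ⟨⟨U, hU, ⟨x, hxU⟩, hb⟩, rfl⟩, hxU, hUV⟩
  refine mono_of_injective_of_isBasis B hB v ?_
  rintro ⟨U, hU, hne, ⟨b⟩⟩
  change Function.Injective (v.app U)
  rw [injective_iff_map_eq_zero]
  intro x hx
  have hxb : x = b.repr x 0 • b 0 := by
    conv_lhs => rw [← b.sum_repr x]
    simp
  by_contra hx0
  have hc : b.repr x 0 ≠ 0 := by
    intro h0
    apply hx0
    rw [hxb, h0, zero_smul]
  rw [hxb, Hom.app_smul] at hx
  have hb0 : v.app U (b 0) = 0 := eq_zero_of_smul_eq_zero hE hU hne hc hx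
  apply hv
  refine eq_zero_of_app_basis_eq_zero hL' hE v hU hne (fun y => ?_)
  have hyb : y = b.repr y 0 • b 0 := by
    conv_lhs => rw [← b.sum_repr y]
    simp
  rw [hyb, Hom.app_smul, hb0, smul_zero]

end Groth.Agent.Lib.Helper39.P1Split
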