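/-
helper39: for a finite locally free module `E` on `P^1_k`, `H^0(E(m)) = 0` for `m ≪ 0`;
hence (helper44's Horrocks criterion) `E` is a finite direct sum of twisting sheaves.

ns `Groth.Agent.Lib.Helper39.P1Split`.
-/
import Groth.Agent.Lib.Helper39.P1Split.TorsionFree
import Groth.Agent.Lib.Proj.Helper44_HorrocksMain
import Groth.Agent.S3557

set_option autoImplicit false
universe u

open CategoryTheory CategoryTheory.Limits AlgebraicGeometry Opposite TopologicalSpace Abelian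

namespace Groth.Agent.Lib.Helper39.P1Split

open Groth.Agent.Lib.QCoh Scheme.Modules FlatMod Groth.Agent.Lib.Cohomology.HHLES
  Groth.Agent.Lib.Proj Groth.Agent.Lib.Proj.Horrocks Twist

/-- projective space over a domain is integral -/
theorem isIntegral_projSpace (n : ℕ) (R : Type u) [CommRing R] [IsDomain R] :
    IsIntegral (CohB1.ProjSpace n R) := by
  change IsIntegral (Proj (CohB1.polyGrading n R))
  rw [Groth.Agent.S3557.result (CohB1.polyGrading n R) (fun f _ hf => hf.eq_zero)]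
  refine ⟨⟨MvPolynomial.X 0, ?_, MvPolynomial.X_ne_zero 0⟩, fun f _ g _ h => mul_eq_zero.1 h⟩
  have hX : (MvPolynomial.X 0 : MvPolynomial (Fin (n + 1)) R) ∈ CohB1.polyGrading n R 1 :=
    MvPolynomial.isHomogeneous_X R 0
  rw [HomogeneousIdeal.mem_iff, HomogeneousIdeal.mem_irrelevant_iff, GradedRing.proj_apply,
    DirectSum.decompose_of_mem_ne _ hX one_ne_zero]

lemma isFinLocFreeOfRank_twist (n : ℕ) (R : Type u) [CommRing R] (t : ℤ) :
    IsFinLocFreeOfRank 1 (twistProjSpace n R t) :=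
  isFinLocFreeOfRank_one_iff_isInvertible.2
    (Groth.Agent.Lib.Proj.isInvertible_twist (𝒜 := CohB1.polyGrading n R)
      (Groth.Agent.Lib.Proj.PnCoh.iSup_deg_one n R) t)

lemma isCoh_of_isFinLocFree {X : Scheme.{u}} {E : X.Modules} (hE : IsFinLocFree E) :
    Coh.IsCoh E :=
  ⟨isQuasicoherent_of_isFinLocFree hE, isFiniteType_of_isFinLocFree hE⟩

variable (k : Type u) [Field k]

/-- there are no nonzero morphisms `O(b) ⟶ E` for `b ≥ h^0(E)`, `E` finite locally free on `P^1_k` -/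
theorem hom_twist_eq_zero (E : (CohB1.ProjSpace 1 k).Modules) (hE : IsFinLocFree E) (b : ℤ)
    (hb : (Module.finrank k (Coh.HH (CohB1.ProjSpace 1 k) E 0) : ℤ) < b + 1)
    (v : twistProjSpace 1 k b ⟶ E) : v = 0 := by
  by_contra hv
  have := isIntegral_projSpace 1 k
  have hmono : Mono v := mono_of_ne_zero (isFinLocFreeOfRank_twist 1 k b) hE v hv
  have hinj : Function.Injective (Canon.HHlin k v 0) := by
    have : Mono ((toAbF (CohB1.ProjSpace 1 k)).map v) := inferInstance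
    exact Ext.postcomp_mk₀_injective_of_mono _ ((toAbF (CohB1.ProjSpace 1 k)).map v)
  have hfin : Module.Finite k (Coh.HH (CohB1.ProjSpace 1 k) E 0) :=
    finite_HH_coh 1 k le_rfl E (isCoh_of_isFinLocFree hE) 0
  have h1 := LinearMap.finrank_le_finrank_of_injective hinj
  have h2 := (Groth.Agent.Lib.Proj.PnRank.finrank_HH_zero k 1 le_rfl b).2
  rw [h2, Nat.choose_one_right] at h1
  have h3 : ((b + ((1 : ℕ) : ℤ)).toNat : ℤ) ≤
      (Module.finrank k (Coh.HH (CohB1.ProjSpace 1 k) E 0) : ℤ) := by exact_mod_cast h1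
  have h4 : 0 ≤ (Module.finrank k (Coh.HH (CohB1.ProjSpace 1 k) E 0) : ℤ) := Int.natCast_nonneg _
  rw [Int.toNat_of_nonneg (by push_cast; omega)] at h3
  push_cast at h3
  omega

/-- `H^0(E(m)) = 0` for `m ≪ 0` -/
theorem exists_vanishing (E : (CohB1.ProjSpace 1 k).Modules) (hE : IsFinLocFree E) :
    ∃ n₀ : ℤ, ∀ m : ℤ, m ≤ n₀ →
      Subsingleton (Coh.HH (CohB1.ProjSpace 1 k) (CohB1.tensorMod E (twistProjSpace 1 k m)) 0) := by
  refine ⟨-(Module.finrank k (Coh.HH (CohB1.ProjSpace 1 k) E 0) : ℤ) - 1, fun m hm => ?_⟩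
  have key : ∀ u : Coh.structureModule (CohB1.ProjSpace 1 k) ⟶ (Tw 1 k m).obj E, u = 0 := by
    intro u
    obtain ⟨v, hv⟩ := (Tw 1 k m).map_surjective ((twUnit 1 k m).hom ≫ u)
    have hv0 : v = 0 := hom_twist_eq_zero k E hE (-m) (by omega) v
    rw [hv0, Functor.map_zero] at hv
    exact (cancel_epi (twUnit 1 k m).hom).1 (hv.symm.trans comp_zero.symm)
  have : EnoughInjectives (CohB1.ProjSpace 1 k).Modules :=
    Groth.Agent.S0485.result _ (CohB1.ProjSpace 1 k).ringCatSheaf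
  have hext : HasExt.{u} (CohB1.ProjSpace 1 k).Modules := hasExt_of_enoughInjectives _
  have h : HasExt.{u} (SheafOfModules.{u} (CohB1.ProjSpace 1 k).ringCatSheaf) := hext
  obtain ⟨e⟩ := @Groth.Agent.Lib.Helper19.CechModUnit.ext_unit_equiv _ _ _
    (CohB1.ProjSpace 1 k).ringCatSheaf h ((Tw 1 k m).obj E) 0
  obtain ⟨⟨f, g, hfg, hgf⟩, -⟩ := e
  refine ⟨fun x y => ?_⟩
  rw [← hgf x, ← hgf y]
  congr 1
  obtain ⟨a, ha⟩ := (Ext.mk₀_bijective _ _).2 (g x)
  obtain ⟨b, hb⟩ := (Ext.mk₀_bijective _ _).2 (g y)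
  rw [← ha, ← hb, key a, key b]

/-- a finite locally free module on `P^1_k` is a finite direct sum of twisting sheaves -/
theorem exists_iso_sigma (E : (CohB1.ProjSpace 1 k).Modules) (hE : IsFinLocFree E) :
    ∃ (r : ℕ) (a : Fin r → ℤ), Nonempty (E ≅ ∐ fun j => twistProjSpace 1 k (a j)) :=
  (horrocks_iff le_rfl E (isCoh_of_isFinLocFree hE)).2
    ⟨exists_vanishing k E hE, fun m i h1 h2 => by omega⟩

end Groth.Agent.Lib.Helper39.P1Split
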