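/-
helper39: Grothendieck's splitting theorem on `P^1_k`: existence (via helper44's Horrocks criterion) and
uniqueness of the splitting type.

ns `Groth.Agent.Lib.Helper39.P1Split`.
-/
import Groth.Agent.Lib.Helper39.P1Split.Vanish
import Groth.Agent.Lib.Helper39.P1Split.Sigma
import Groth.Agent.Lib.Helper39.P1Split.Comb

set_option autoImplicit false
universe u

open CategoryTheory CategoryTheory.Limits AlgebraicGeometry Opposite TopologicalSpace Abelian

namespace Groth.Agent.Lib.Helper39.P1Split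

open Groth.Agent.Lib.QCoh Scheme.Modules FlatMod Groth.Agent.Lib.Cohomology.HHLES
  Groth.Agent.Lib.Proj Groth.Agent.Lib.Proj.Horrocks Twist

variable (k : Type u) [Field k]

/-- `h^0(E(m))` for `E ≅ ⊕ O(d_j)` on `P^1_k` -/
theorem finrank_HH_tw_of_iso {r : ℕ} (E : (CohB1.ProjSpace 1 k).Modules) (d : Fin r → ℤ)
    (e : E ≅ ∐ fun j => twistProjSpace 1 k (d j)) (m : ℤ) :
    Module.finrank k (Coh.HH (CohB1.ProjSpace 1 k) ((Tw 1 k m).obj E) 0) = hilb d m := by
  have hfin : ∀ j, Module.Finite k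
      (Coh.HH (CohB1.ProjSpace 1 k) (twistProjSpace 1 k (d j + m)) 0) :=
    fun j => (Groth.Agent.Lib.Proj.PnRank.finrank_HH_zero k 1 le_rfl _).1
  have h1 : ∀ j, ((twO 1 k (d j) m (d j + m) rfl).inv ≫
      (Tw 1 k m).map (Sigma.ι (fun j => twistProjSpace 1 k (d j)) j ≫ e.inv)) ≫
      ((Tw 1 k m).map (e.hom ≫ Sigma.π (fun j => twistProjSpace 1 k (d j)) j) ≫
        (twO 1 k (d j) m (d j + m) rfl).hom) = 𝟙 _ := by
    intro j
    have h : (Sigma.ι (fun j => twistProjSpace 1 k (d j)) j ≫ e.inv) ≫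
        (e.hom ≫ Sigma.π (fun j => twistProjSpace 1 k (d j)) j) = 𝟙 _ := by
      rw [Category.assoc, e.inv_hom_id_assoc, Sigma.ι_π_eq_id]
    rw [Category.assoc, ← Functor.map_comp_assoc, h, CategoryTheory.Functor.map_id,
      Category.id_comp, Iso.inv_hom_id]
  have h2 : ∀ j j', j ≠ j' → ((twO 1 k (d j) m (d j + m) rfl).inv ≫
      (Tw 1 k m).map (Sigma.ι (fun j => twistProjSpace 1 k (d j)) j ≫ e.inv)) ≫
      ((Tw 1 k m).map (e.hom ≫ Sigma.π (fun j => twistProjSpace 1 k (d j)) j') ≫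
        (twO 1 k (d j') m (d j' + m) rfl).hom) = 0 := by
    intro j j' hjj
    have h : (Sigma.ι (fun j => twistProjSpace 1 k (d j)) j ≫ e.inv) ≫
        (e.hom ≫ Sigma.π (fun j => twistProjSpace 1 k (d j)) j') = 0 := by
      rw [Category.assoc, e.inv_hom_id_assoc, Sigma.ι_π_of_ne _ hjj]
    rw [Category.assoc, ← Functor.map_comp_assoc, h, Functor.map_zero, zero_comp, comp_zero]
  have hsum : ∑ j, ((Tw 1 k m).map (e.hom ≫ Sigma.π (fun j => twistProjSpace 1 k (d j)) j) ≫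
      (twO 1 k (d j) m (d j + m) rfl).hom) ≫ ((twO 1 k (d j) m (d j + m) rfl).inv ≫
      (Tw 1 k m).map (Sigma.ι (fun j => twistProjSpace 1 k (d j)) j ≫ e.inv)) = 𝟙 _ := by
    have h1 : ∀ j, ((Tw 1 k m).map (e.hom ≫ Sigma.π (fun j => twistProjSpace 1 k (d j)) j) ≫
        (twO 1 k (d j) m (d j + m) rfl).hom) ≫ ((twO 1 k (d j) m (d j + m) rfl).inv ≫
        (Tw 1 k m).map (Sigma.ι (fun j => twistProjSpace 1 k (d j)) j ≫ e.inv)) =
        (Tw 1 k m).map (e.hom ≫ (Sigma.π (fun j => twistProjSpace 1 k (d j)) j ≫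
          Sigma.ι (fun j => twistProjSpace 1 k (d j)) j) ≫ e.inv) := by
      intro j
      rw [Category.assoc, Iso.hom_inv_id_assoc, ← Functor.map_comp]
      simp only [Category.assoc]
    rw [Finset.sum_congr rfl (fun j _ => h1 j), ← Functor.map_sum, ← Preadditive.comp_sum,
      ← Preadditive.sum_comp, Groth.Agent.Lib.Cohomology.CohSigma.sum_π_ι, Category.id_comp,
      e.hom_inv_id, CategoryTheory.Functor.map_id]
  rw [finrank_HH_of_bicone k ((Tw 1 k m).obj E) (fun j => twistProjSpace 1 k (d j + m))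
    (fun j => (twO 1 k (d j) m (d j + m) rfl).inv ≫
      (Tw 1 k m).map (Sigma.ι (fun j => twistProjSpace 1 k (d j)) j ≫ e.inv))
    (fun j => (Tw 1 k m).map (e.hom ≫ Sigma.π (fun j => twistProjSpace 1 k (d j)) j) ≫
      (twO 1 k (d j) m (d j + m) rfl).hom) h1 h2 hsum 0]
  unfold hilb
  refine Finset.sum_congr rfl (fun j _ => ?_)
  rw [(Groth.Agent.Lib.Proj.PnRank.finrank_HH_zero k 1 le_rfl _).2, Nat.choose_one_right]
  norm_num

/-- **Grothendieck's splitting theorem on `P^1_k`** -/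
theorem exists_unique_splitting (r : ℕ) (E : (CohB1.ProjSpace 1 k).Modules)
    (hE : IsFinLocFreeOfRank r E) :
    ∃! d : Fin r → ℤ, Antitone d ∧
      Nonempty (E ≅ ∐ fun i : Fin r => twistProjSpace 1 k (d i)) := by
  have hE' := isFinLocFree_of_isFinLocFreeOfRank hE
  obtain ⟨r', a, ⟨e⟩⟩ := exists_iso_sigma k E hE'
  have := isIntegral_projSpace 1 k
  have hr : r' = r := by
    have h1 : IsFinLocFreeOfRank r' (∐ fun j => twistProjSpace 1 k (a j)) :=
      isFinLocFreeOfRank_sigma _ (fun j => isFinLocFreeOfRank_twist 1 k (a j))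
    exact rank_unique (isFinLocFreeOfRank_of_iso e.symm h1) hE
  subst hr
  obtain ⟨σ, hσ⟩ := exists_perm_antitone a
  have e₂ : E ≅ ∐ fun i : Fin r' => twistProjSpace 1 k ((a ∘ σ) i) :=
    e ≪≫ (Sigma.whiskerEquiv (f := fun i : Fin r' => twistProjSpace 1 k ((a ∘ σ) i))
      (g := fun i : Fin r' => twistProjSpace 1 k (a i)) σ (fun j => Iso.refl _)).symm
  refine ⟨a ∘ σ, ⟨hσ, ⟨e₂⟩⟩, ?_⟩
  rintro d' ⟨hd', ⟨e'⟩⟩
  apply eq_of_hilb_eq d' (a ∘ σ) hd' hσ
  intro m
  rw [← finrank_HH_tw_of_iso k E d' e' m, ← finrank_HH_tw_of_iso k E (a ∘ σ) e₂ m]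

end Groth.Agent.Lib.Helper39.P1Split
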